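import Cfsg.Agent.Lib.FH.C

/-!
# Frobenius-like groups `F R` of operators (`F` extraspecial, `R` of prime order): the faithful action of fixed points
-/

set_option autoImplicit false

namespace Cfsg.Lib.XF

open Subgroup Cfsg.Lib.BG Cfsg.Lib.Transfer Cfsg.Lib.HH Cfsg.Lib.FH

variable {G : Type*} [Group G] {X F R V W Q K B U T A M : Subgroup G} {p r s : ℕ} {g : G}

/-- The elements normalizing `Q` and centralizing `Q` modulo `B`. -/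
def cq (Q B : Subgroup G) : Subgroup G where
  carrier := {g | g ∈ 𝐍(Q) ∧ ∀ x ∈ Q, g * x * g⁻¹ * x⁻¹ ∈ B}
  one_mem' := ⟨one_mem _, fun x _ => by simp⟩
  mul_mem' := fun {a b} ha hb => ⟨mul_mem ha.1 hb.1, fun x hx => by
    have := mul_mem (ha.2 _ (conj_mem_of_norm hb.1 hx)) (hb.2 x hx)
    convert this using 1
    group⟩
  inv_mem' := fun {a} ha => ⟨inv_mem ha.1, fun x hx => by
    have := inv_mem (ha.2 _ (conj_mem_of_norm' ha.1 hx))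
    convert this using 1
    group⟩

theorem mem_cq : g ∈ cq Q B ↔ g ∈ 𝐍(Q) ∧ ∀ x ∈ Q, g * x * g⁻¹ * x⁻¹ ∈ B := Iff.rfl

theorem le_cq (h1 : A ≤ 𝐍(Q)) (h2 : ⁅Q, A⁆ ≤ B) : A ≤ cq Q B := fun _ ha =>
  ⟨h1 ha, fun _ hx => h2 (by rw [commutator_comm]; exact comm_mem_comm ha hx)⟩

theorem comm_le_of_cq (h : A ≤ cq Q B) : ⁅Q, A⁆ ≤ B := by
  rw [commutator_comm]
  exact comm_le_iff.2 fun a ha x hx => (h ha).2 x hx

theorem conj_mem_cq {f : G} (hf : f ∈ 𝐍(Q)) (h : g ∈ cq Q (f⁻¹ ⋆ B)) : f * g * f⁻¹ ∈ cq Q B :=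
  ⟨mul_mem (mul_mem hf h.1) (inv_mem hf), fun x hx => by
    have := mem_conj.1 (h.2 _ (conj_mem_of_norm' hf hx))
    convert this using 1
    group⟩

theorem norm_cq (h1 : A ≤ 𝐍(Q)) (h2 : A ≤ 𝐍(B)) : A ≤ 𝐍(cq Q B) :=
  le_norm_iff.2 fun _ ha _ hg => conj_mem_cq (h1 ha) (by rwa [conj_eq_of_norm (inv_mem (h2 ha))])

/-- `F R` acts on `X`; `F` has class at most two, centre of order dividing `s`, and no fixed points. -/
structure Act (X F R : Subgroup G) (r s : ℕ) : Prop where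
  hr : r.Prime
  hs : s.Prime
  rs : r ≠ s
  cR : Nat.card R = r
  Fp : IsPGroup s F
  RF : R ≤ 𝐍(F)
  cen : F ⊓ 𝐂(R) ≤ 𝐂(F)
  zc : Nat.card ↥𝐙(F) ∣ s
  cl2 : ⁅F, F⁆ ≤ 𝐂(F)
  comm : ⁅F, R⁆ = F
  FX : F ≤ 𝐍(X)
  RX : R ≤ 𝐍(X)
  cop : ¬ r ∣ Nat.card X
  fpf : X ⊓ 𝐂(F) = ⊥

theorem Act.sub (h : Act X F R r s) (hM : M ≤ X) (h1 : F ≤ 𝐍(M)) (h2 : R ≤ 𝐍(M)) : Act M F R r s :=
  { h with
    FX := h1
    RX := h2
    cop := fun e => h.cop (e.trans (card_dvd hM))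
    fpf := eq_bot_mono h.fpf (inf_le_inf_right _ hM) }

theorem Act.pR (h : Act X F R r s) : (Nat.card R).Prime := h.cR ▸ h.hr

theorem Act.solR (h : Act X F R r s) : Group.IsSolvable R := abelian_sol (abelian_of_cyclic (cyclic_of_prime h.pR))

theorem Act.cRX (h : Act X F R r s) : (Nat.card R).Coprime (Nat.card X) :=
  h.cR ▸ (Nat.Prime.coprime_iff_not_dvd h.hr).2 h.cop

theorem Act.nZ (h : Act X F R r s) : F ≤ 𝐍(F ⊓ 𝐂(R)) := norm_of_cent (cent_symm h.cen)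

theorem Act.nZ' (h : Act X F R r s) : R ≤ 𝐍(F ⊓ 𝐂(R)) := norm_inf h.RF (norm_cent (le_norm R))

variable [Finite G]

theorem Act.nilF (h : Act X F R r s) : Group.IsNilpotent F :=
  have := Fact.mk h.hs
  pgroup_nil h.Fp

theorem Act.fp (h : Act X F R r s) : FP X F := ⟨h.FX, h.nilF, h.fpf⟩

theorem Act.cFX (h : Act X F R r s) : (Nat.card F).Coprime (Nat.card X) := by
  have := Fact.mk h.hs
  refine (PiGrp.coprime_pgroup (PiGrp.p'_iff.2 fun e => ?_) h.Fp).symm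
  exact ne_bot_of_dvd h.hs (dvd_card_cent h.Fp h.FX e) h.fpf

theorem Act.cRF (h : Act X F R r s) : (Nat.card R).Coprime (Nat.card F) := by
  have := Fact.mk h.hs
  refine PiGrp.coprime_pgroup (PiGrp.p'_iff.2 fun e => h.rs ?_) h.Fp
  rw [h.cR] at e
  exact ((Nat.prime_dvd_prime_iff_eq h.hs h.hr).1 e).symm

theorem Act.pZ (h : Act X F R r s) (e : F ⊓ 𝐂(R) ≠ ⊥) : Nat.card ↥(F ⊓ 𝐂(R)) = s :=
  ((Nat.dvd_prime h.hs).1 ((card_dvd (le_inf inf_le_left h.cen)).trans h.zc)).resolve_left (card_ne_one e)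

/-- Generation by the fixed points of a Frobenius complement of prime order. -/
theorem frob_le (hW : IsMulCommutative W) (hU : Group.IsNilpotent U) (hR : (Nat.card R).Prime) (RU : R ≤ 𝐍(U))
    (h0 : U ⊓ 𝐂(R) = ⊥) (UW : U ≤ 𝐍(W)) (RW : R ≤ 𝐍(W)) (hc : (Nat.card U).Coprime (Nat.card W)) (UT : U ≤ 𝐍(T))
    (h : W ⊓ 𝐂(R) ≤ T) : ⁅W, U⁆ ≤ T := by
  have h1 : Fr ⁅W, U⁆ U R := ⟨⟨right_norm_comm W U, hU, eq_bot_mono (coprime_abelian_cent_dprod UW hc hW).inf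
    (le_inf inf_le_left (inf_le_inf_right _ (comm_le_left UW)))⟩, norm_comm RW RU, RU,
    fun x hx x1 => by rw [cent1_eq_of_prime hR hx x1, h0]⟩
  rw [← h1.gen_eq]
  exact iSup₂_le fun f hf => conj_le_of_norm ((inf_le_inf_right _ (comm_le_left UW)).trans h) (UT hf)

theorem comm_inf_cent (hA : A ≤ 𝐍(V)) (hc : (Nat.card A).Coprime (Nat.card V)) (hV : IsMulCommutative V) :
    ⁅V, A⁆ ⊓ 𝐂(A) = ⊥ :=
  eq_bot_mono (coprime_abelian_cent_dprod hA hc hV).inf (le_inf inf_le_left (inf_le_inf_right _ (comm_le_left hA)))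

/-- `K ≤ C_Q(R)` centralizes `C_V(R)`. -/
structure Cf (V Q K F R : Subgroup G) (r s : ℕ) : Prop where
  aV : Act V F R r s
  aQ : Act Q F R r s
  abV : IsMulCommutative V
  QV : Q ≤ 𝐍(V)
  cop : (Nat.card Q).Coprime (Nat.card V)
  KQ : K ≤ Q
  KR : K ≤ 𝐂(R)
  KV : V ⊓ 𝐂(R) ≤ 𝐂(K)

theorem Cf.hyp (h : Cf V Q K F R r s) (hp : p.Prime) (hQ : IsMulCommutative Q) (h0 : V ⊓ 𝐂(Q) = ⊥) (hB : B ≤ Q)
    (hi : B.relIndex Q = p) (hE : V ⊓ 𝐂(B) ≠ ⊥) (hK : ¬ K ≤ B) : R ≤ cq Q B := by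
  have u1 : ⁅Q, R⁆ ≤ Q := comm_le_left h.aQ.RX
  have u2 := frob_le h.abV (abelian_nil (abelian_of_le hQ u1)) h.aQ.pR (right_norm_comm Q R)
    (comm_inf_cent h.aQ.RX h.aQ.cRX hQ) (u1.trans h.QV) h.aV.RX (coprime_mono h.cop u1 le_rfl)
    (le_norm_of_le (abelian_cent' hQ u1 h.KQ)) h.KV
  refine le_cq h.aQ.RX (by_contra fun e => hE (eq_bot_mono h0 (le_inf inf_le_left ?_)))
  have u3 : ⁅V ⊓ 𝐂(B), ⁅Q, R⁆⁆ ≤ V ⊓ 𝐂(B) :=
    comm_le_left (norm_inf (u1.trans h.QV) (norm_cent (u1.trans (abelian_norm hQ hB))))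
  have u4 : ⁅V ⊓ 𝐂(B), ⁅Q, R⁆⁆ = ⊥ := by
    refine eq_bot_mono h0 (le_inf (u3.trans inf_le_left) ?_)
    have := le_cent_sup (u3.trans inf_le_right) ((commutator_mono inf_le_left le_rfl).trans u2)
    rwa [sup_eq_of_relIndex_prime hp hB hi h.KQ hK] at this
  have := le_cent_sup inf_le_right (comm_eq_bot_iff.1 u4)
  rwa [sup_eq_of_relIndex_prime hp hB hi u1 e] at this

theorem Cf.caseA (h : Cf V Q K F R r s) (hp : p.Prime) (hQ : IsMulCommutative Q) (h0 : V ⊓ 𝐂(Q) = ⊥) (hB : B ≤ Q)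
    (hi : B.relIndex Q = p) (hE : V ⊓ 𝐂(B) ≠ ⊥) (hK : ¬ K ≤ B) (hZ : F ⊓ 𝐂(R) ≤ 𝐂(Q)) : False := by
  have c1 := h.hyp hp hQ h0 hB hi hE hK
  have c2 : R ≤ 𝐍(F ⊓ cq Q B) := norm_inf h.aQ.RF (le_norm_of_le c1)
  have c3 : ∀ f ∈ F, f ∉ cq Q B → K ≤ f⁻¹ ⋆ B := fun f hf f1 => by_contra fun e => f1 (by
    have fQ := inv_mem (h.aQ.FX hf)
    have c4 := h.hyp (B := f⁻¹ ⋆ B) hp hQ h0 (conj_le_of_norm hB fQ)
      (by rw [← hi, ← relIndex_conj f⁻¹ B Q, conj_eq_of_norm fQ]) (by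
        rw [← conj_eq_of_norm (inv_mem (h.aV.FX hf)), ← conj_centralizer, ← conj_inf]
        exact fun e' => hE ((map_eq_bot_iff_of_injective _ (MulAut.conj f⁻¹).injective).1 e')) e
    obtain ⟨n, hn, hc⟩ := Coprime.exists_mul_mem_centralizer' c2 (coprime_mono h.aQ.cRF le_rfl inf_le_left)
      (Or.inl h.aQ.solR) (k := f) fun a ha => mem_inf.2 ⟨F.mul_mem (conj_mem_of_norm (h.aQ.RF ha) hf) (F.inv_mem hf), by
        have := mul_mem (c1 ha) (conj_mem_cq (h.aQ.FX hf) (inv_mem (c4 ha)))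
        simpa only [mul_assoc] using this⟩
    have c5 : F ⊓ 𝐂(R) ≤ cq Q B := le_cq (norm_of_cent hZ) ((comm_eq_bot_iff'.2 hZ).le.trans bot_le)
    simpa using (cq Q B).mul_mem ((cq Q B).inv_mem hn.2) (c5 ⟨F.mul_mem hn.1 hf, hc⟩))
  let T : Subgroup G := Q ⊓ ⨅ (f : G) (_ : f ∈ F) (_ : f ∉ cq Q B), f⁻¹ ⋆ B
  have mT : ∀ x, x ∈ T ↔ x ∈ Q ∧ ∀ f ∈ F, f ∉ cq Q B → f * x * f⁻¹ ∈ B := fun x => by
    simp only [T, mem_inf, mem_iInf, mem_conj, inv_inv]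
  have t1 : F ⊓ cq Q B ≤ 𝐍(T) := le_norm_iff.2 fun n hn x hx => (mT _).2 ⟨conj_mem_of_norm hn.2.1 ((mT _).1 hx).1,
    fun f hf f1 => by
      have := ((mT _).1 hx).2 (f * n) (mul_mem hf hn.1) fun e => f1 (by simpa using mul_mem e (inv_mem hn.2))
      convert this using 1
      group⟩
  have t2 : K ≤ T := le_inf h.KQ (le_iInf fun f => le_iInf fun hf => le_iInf fun f1 => c3 f hf f1)
  have t3 := coprime_cent_prod t1 (coprime_mono h.aQ.cFX inf_le_left inf_le_left)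
    (Or.inr (abelian_sol (abelian_of_le hQ inf_le_left)))
  refine hK (t2.trans (t3.ge.trans (sup_le ((commutator_mono inf_le_left le_rfl).trans
    (comm_le_of_cq inf_le_right)) fun w hw => ?_)))
  obtain ⟨x, x1, x2⟩ := orbit_prod' (U := B) hQ h.aQ.FX hw.1.1 fun y hy => by
    by_cases e : y ∈ cq Q B
    · exact Or.inl (mul_inv_eq_iff_eq_mul.2 (mem_cent.1 hw.2 y ⟨hy, e⟩))
    · exact Or.inr (((mT _).1 hw.1).2 y hy e)
  rw [h.aQ.fpf, mem_bot] at x1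
  rwa [x1, mul_one, inv_mem_iff] at x2

theorem Cf.caseB (h : Cf V Q K F R r s) (hp : p.Prime) (hQ : IsMulCommutative Q) (h0 : V ⊓ 𝐂(Q) = ⊥) (hB : B ≤ Q)
    (hi : B.relIndex Q = p) (hE : V ⊓ 𝐂(B) ≠ ⊥) (hK : ¬ K ≤ B) (hZ : Q ⊓ 𝐂(F ⊓ 𝐂(R)) = ⊥) : False := by
  have c1 := h.hyp hp hQ h0 hB hi hE hK
  have RB : R ≤ 𝐍(B) := norm_of_comm_le_of_le (comm_le_of_cq c1) hB
  have QB : ¬ Q ≤ B := fun e => hK (h.KQ.trans e)
  have pZ : (Nat.card ↥(F ⊓ 𝐂(R))).Prime := by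
    rw [h.aQ.pZ fun e => QB ?_]
    · exact h.aQ.hs
    · rw [e] at hZ
      exact (le_inf le_rfl (cent_symm bot_le)).trans (hZ.le.trans bot_le)
  have ZQ : F ⊓ 𝐂(R) ≤ 𝐍(Q) := inf_le_left.trans h.aQ.FX
  have e1 : V ⊓ 𝐂(B) ⊓ 𝐂(R) ≤ ⊥ := by
    refine (le_inf (inf_le_left.trans inf_le_left) ?_).trans h0.le
    have := le_cent_sup (inf_le_left.trans inf_le_right : V ⊓ 𝐂(B) ⊓ 𝐂(R) ≤ 𝐂(B))
      ((inf_le_inf_right _ inf_le_left).trans h.KV)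
    rwa [sup_eq_of_relIndex_prime hp hB hi h.KQ hK] at this
  have key : ∀ N : Subgroup G, N ≤ F ⊓ 𝐍(B) → R ≤ 𝐍(N) → N ⊓ 𝐂(R) = ⊥ → V ⊓ 𝐂(B) ≤ 𝐂(N) := fun N n1 n2 n3 =>
    comm_eq_bot_iff.1 (eq_bot_iff.2 (frob_le (abelian_of_le h.abV inf_le_left)
      (nil_of_le h.aQ.nilF (n1.trans inf_le_left)) h.aQ.pR n2 n3
      (norm_inf ((n1.trans inf_le_left).trans h.aV.FX) (norm_cent (n1.trans inf_le_right)))
      (norm_inf h.aV.RX (norm_cent RB)) (coprime_mono h.aV.cFX (n1.trans inf_le_left) inf_le_left)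
      (norm_of_cent (cent_symm bot_le)) e1))
  have RN : R ≤ 𝐍(F ⊓ 𝐍(B)) := norm_inf h.aQ.RF (norm_norm RB)
  have e2 : V ⊓ 𝐂(B) ⊓ 𝐂(F ⊓ 𝐍(B)) ≠ ⊥ := by
    by_cases zb : F ⊓ 𝐂(R) ≤ 𝐍(B)
    · have f1 : Fr (V ⊓ 𝐂(B)) Q (F ⊓ 𝐂(R)) := ⟨⟨norm_inf h.QV (norm_cent (abelian_norm hQ hB)), abelian_nil hQ,
        eq_bot_mono h0 (inf_le_inf_right _ inf_le_left)⟩, norm_inf (inf_le_left.trans h.aV.FX) (norm_cent zb), ZQ,
        fun x hx x1 => by rw [cent1_eq_of_prime pZ hx x1, hZ]⟩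
      have f2 : ⁅F ⊓ 𝐍(B), R⁆ ≤ cq Q B :=
        (commutator_mono le_rfl c1).trans (comm_le_right (norm_cq (inf_le_left.trans h.aQ.FX) inf_le_right))
      have f3 := key _ (comm_le_left RN) (right_norm_comm _ _) (eq_bot_mono (inf_eq_bot_of_prime pZ (B := cq Q B)
        fun e => QB ((coprime_comm_eq_of_cent_bot ZQ (coprime_mono h.aQ.cFX inf_le_left le_rfl)
          (Or.inr (abelian_sol hQ)) hZ).ge.trans (comm_le_of_cq e)))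
        (le_inf (inf_le_inf_right _ ((comm_le_left RN).trans inf_le_left)) (inf_le_left.trans f2)))
      refine ne_bot_mono (f1.fix_ne hE) (le_inf inf_le_left ?_)
      have f4 := le_cent_sup (inf_le_left.trans f3 : V ⊓ 𝐂(B) ⊓ 𝐂(F ⊓ 𝐂(R)) ≤ _)
        (inf_le_right.trans (cent_anti (inf_le_inf_right 𝐂(R) (inf_le_left : F ⊓ 𝐍(B) ≤ F))))
      rwa [coprime_cent_prod RN (coprime_mono h.aQ.cRF le_rfl inf_le_left) (Or.inl h.aQ.solR)] at f4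
    · refine ne_bot_mono hE (le_inf le_rfl (key _ le_rfl RN (eq_bot_mono (inf_eq_bot_of_prime pZ zb) ?_)))
      exact le_inf (inf_le_inf_right _ inf_le_left) (inf_le_left.trans inf_le_right)
  obtain ⟨w, hw, w1⟩ := exists_ne_one e2
  obtain ⟨x, h3, h4⟩ := comp_fix hp h.abV hQ h.QV h.cop h0 hB hi h.aV.FX h.aQ.FX hw
  rw [h.aV.fpf, mem_bot] at h3
  rw [h3, mul_one, inv_mem_iff] at h4
  exact w1 (mem_bot.1 ((coprime_abelian_cent_dprod (hB.trans h.QV) (coprime_mono h.cop hB le_rfl) h.abV).inf ▸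
    mem_inf.2 ⟨h4, hw.1⟩))

theorem Cf.ab [hp : Fact p.Prime] (h : Cf V Q K F R r s) (hQ : IsElementaryAbelian p Q)
    (hZ : F ⊓ 𝐂(R) ≤ 𝐂(Q) ∨ Q ⊓ 𝐂(F ⊓ 𝐂(R)) = ⊥) : V ≤ 𝐂(K) := by
  by_cases q1 : Q = ⊥
  · exact cent_symm ((h.KQ.trans q1.le).trans bot_le)
  have v1 := comm_le_left h.QV
  have h' : Cf ⁅V, Q⁆ Q K F R r s :=
    { h with
      aV := h.aV.sub v1 (norm_comm h.aV.FX h.aQ.FX) (norm_comm h.aV.RX h.aQ.RX)
      abV := abelian_of_le h.abV v1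
      QV := right_norm_comm V Q
      cop := coprime_mono h.cop le_rfl v1
      KV := (inf_le_inf_right _ v1).trans h.KV }
  have h0 := comm_inf_cent h.QV h.cop h.abV
  refine (coprime_cent_prod h.QV h.cop (Or.inr (abelian_sol h.abV))).ge.trans
    (sup_le ?_ (inf_le_right.trans (cent_anti h.KQ)))
  refine Coprime.le_of_forall_hyperplane' hQ q1 h'.QV h'.cop fun B hB hi => ?_
  by_cases hE : ⁅V, Q⁆ ⊓ 𝐂(B) = ⊥
  · exact hE.le.trans bot_le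
  by_cases hK : K ≤ B
  · exact inf_le_right.trans (cent_anti hK)
  exact (hZ.elim (h'.caseA hp.out hQ.1 h0 hB hi hE hK) (h'.caseB hp.out hQ.1 h0 hB hi hE hK)).elim

/-- A central subgroup of `C_Q(R)` centralizing `C_V(R)` centralizes the second centre of `Q`. -/
theorem Cf.z2 (h : Cf V Q K F R r s) (faith : Q ⊓ 𝐂(V) = ⊥) (hK : Q ⊓ 𝐂(R) ≤ 𝐂(K)) :
    K ≤ 𝐂(Q ⊓ cq Q 𝐙(Q)) := by
  set Y := Q ⊓ cq Q 𝐙(Q) with hY
  have RZ : R ≤ 𝐍(𝐙(Q)) := norm_center h.aQ.RX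
  have RY : R ≤ 𝐍(Y) := norm_inf h.aQ.RX (norm_cq h.aQ.RX RZ)
  have u1 : ⁅𝐙(Q), R⁆ ≤ 𝐙(Q) := comm_le_left RZ
  have u0 : ⁅𝐙(Q), R⁆ ≤ Q := u1.trans inf_le_left
  have u2 : Q ≤ 𝐂(⁅𝐙(Q), R⁆) := cent_symm (u1.trans inf_le_right)
  have u3 := frob_le h.abV (abelian_nil (abelian_of_le (abelian_center Q) u1)) h.aQ.pR (right_norm_comm _ R)
    (comm_inf_cent RZ (coprime_mono h.aQ.cRX le_rfl inf_le_left) (abelian_center Q)) (u0.trans h.QV) h.aV.RX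
    (coprime_mono h.cop u0 le_rfl) (le_norm_of_le (cent_symm (h.KQ.trans u2))) h.KV
  have y1 : ⁅Y, R⁆ ≤ Q := (comm_le_left RY).trans inf_le_left
  have u4 : ⁅⁅Y, R⁆, K⁆ ≤ ⁅𝐙(Q), R⁆ := by
    refine Core.three_subgroups (norm_of_cent (inf_le_left.trans u2)) (right_norm_comm _ R)
      (norm_of_cent (h.KQ.trans u2)) ?_ (commutator_mono ?_ le_rfl)
    · rw [comm_eq_bot_iff'.2 h.KR, commutator_bot_left]
      exact bot_le
    · exact (commutator_mono h.KQ le_rfl).trans (comm_le_of_cq inf_le_right)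
  have u5 : ⁅⁅Y, R⁆, K⁆ ≤ 𝐂(⁅V, ⁅𝐙(Q), R⁆⁆) := (commutator_mono le_rfl (cent_symm u3)).trans
    (comm_le_right (norm_cent (norm_comm (y1.trans h.QV) (norm_of_cent (y1.trans u2)))))
  have u6 : ⁅⁅Y, R⁆, K⁆ = ⊥ := by
    refine eq_bot_mono faith (le_inf (u4.trans u0) ?_)
    have := le_cent_sup u5 (u4.trans (cent_symm (inf_le_right : V ⊓ 𝐂(⁅𝐙(Q), R⁆) ≤ _)))
    rwa [coprime_cent_prod (u0.trans h.QV) (coprime_mono h.cop u0 le_rfl) (Or.inr (abelian_sol h.abV))] at this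
  have := le_cent_sup (comm_eq_bot_iff'.1 u6) (cent_symm ((inf_le_inf_right 𝐂(R) (inf_le_left : Y ≤ Q)).trans hK))
  rwa [coprime_cent_prod RY (coprime_mono h.aQ.cRX le_rfl inf_le_left) (Or.inl h.aQ.solR)] at this

omit [Finite G] in
theorem abelian_of_z2 (hQ : Group.IsNilpotent Q) (h : Q ≤ 𝐂(Q ⊓ cq Q 𝐙(Q))) : IsMulCommutative Q := by
  have n1 : Q ≤ 𝐍(𝐙(Q)) := norm_center (le_norm Q)
  by_contra e
  obtain ⟨y, ⟨⟨x, hx, rfl⟩, hy⟩, y1⟩ := exists_ne_one (center_ne_bot_of_nil (nil_quo hQ 𝐙(Q))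
    fun e' => e (abelian_iff.2 (((quo_eq_bot_iff n1).1 e').trans inf_le_right)))
  refine y1 ((QuotientGroup.eq_one_iff _).2 ⟨hx, cent_symm h ⟨hx, le_norm Q hx, fun z hz => ?_⟩⟩)
  have := mem_cent.1 hy _ ⟨⟨z, n1 hz⟩, hz, rfl⟩
  rw [← map_mul, ← map_mul, eq_comm, ← mul_inv_eq_one, ← map_inv, ← map_mul] at this
  have h2 := (QuotientGroup.eq_one_iff _).1 this
  rw [mem_subgroupOf] at h2
  simpa [mul_assoc] using h2

/-- The fixed points of `R` in `Q` act faithfully on the fixed points of `R` in `V`. -/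
theorem kp [Fact p.Prime] (aV : Act V F R r s) (aQ : Act Q F R r s) (abV : IsMulCommutative V) (QV : Q ≤ 𝐍(V))
    (cop : (Nat.card Q).Coprime (Nat.card V)) (hQ : IsPGroup p Q) (faith : Q ⊓ 𝐂(V) = ⊥) :
    Q ⊓ 𝐂(R) ⊓ 𝐂(V ⊓ 𝐂(R)) = ⊥ := by
  by_contra e
  have ZR : F ⊓ 𝐂(R) ≤ 𝐍(𝐂(R)) := le_norm_of_le inf_le_right
  have z1 : F ⊓ 𝐂(R) ≤ 𝐍(Q ⊓ 𝐂(R)) := norm_inf (inf_le_left.trans aQ.FX) ZR
  have k0 := nil_meet_center (pgroup_nil (pgroup_of_le hQ (inf_le_left : Q ⊓ 𝐂(R) ≤ Q))) inf_le_left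
    (norm_inf (le_norm _) (norm_cent (norm_inf (inf_le_left.trans QV) (le_norm_of_le inf_le_right)))) e
  set K0 := Q ⊓ 𝐂(R) ⊓ 𝐂(V ⊓ 𝐂(R)) ⊓ 𝐂(Q ⊓ 𝐂(R)) with hK0
  have k1 : K0 ≤ Q ⊓ 𝐂(R) := inf_le_left.trans inf_le_left
  have k2 : IsMulCommutative K0 := abelian_iff.2 (inf_le_right.trans (cent_anti k1))
  have k3 : F ⊓ 𝐂(R) ≤ 𝐍(omegaOne p K0) := norm_Ohm1 (norm_inf (norm_inf z1
    (norm_cent (norm_inf (inf_le_left.trans aV.FX) ZR))) (norm_cent z1)) p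
  have k4 := Ohm1_ne_bot (pgroup_of_le hQ (k1.trans inf_le_left)) k0
  obtain ⟨K, k5, k6, k7⟩ : ∃ K : Subgroup G, K ≤ omegaOne p K0 ∧ K ≠ ⊥ ∧
      (K ≤ 𝐂(F ⊓ 𝐂(R)) ∨ K ≤ ⁅K, F ⊓ 𝐂(R)⁆) := by
    by_cases c : omegaOne p K0 ⊓ 𝐂(F ⊓ 𝐂(R)) = ⊥
    · exact ⟨_, le_rfl, k4, Or.inr (coprime_comm_eq_of_cent_bot k3 (coprime_mono aQ.cFX inf_le_left
        (((Ohm1_le p K0).trans k1).trans inf_le_left)) (Or.inr (abelian_sol (elab_Ohm1 k2).1)) c).ge⟩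
    · exact ⟨_, inf_le_left, c, Or.inl inf_le_right⟩
  have k8 : K ≤ K0 := k5.trans (Ohm1_le p K0)
  have kE : IsElementaryAbelian p K := ⟨abelian_of_le k2 k8, fun a ha => (elab_Ohm1 k2).2 a (k5 ha)⟩
  let Q1 : Subgroup G := sInf {Y | K ≤ Y ∧ F ≤ 𝐍(Y) ∧ R ≤ 𝐍(Y)}
  have min : ∀ Y : Subgroup G, K ≤ Y → F ≤ 𝐍(Y) → R ≤ 𝐍(Y) → Q1 ≤ Y := fun Y a b c => sInf_le ⟨a, b, c⟩
  have q1 : K ≤ Q1 := le_sInf fun Y hY => hY.1
  have q2 : F ≤ 𝐍(Q1) := le_norm_iff.2 fun a ha x hx =>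
    mem_sInf.2 fun Y hY => conj_mem_of_norm (hY.2.1 ha) (mem_sInf.1 hx Y hY)
  have q3 : R ≤ 𝐍(Q1) := le_norm_iff.2 fun a ha x hx =>
    mem_sInf.2 fun Y hY => conj_mem_of_norm (hY.2.2 ha) (mem_sInf.1 hx Y hY)
  have q4 : Q1 ≤ Q := min Q ((k8.trans k1).trans inf_le_left) aQ.FX aQ.RX
  clear_value Q1
  have h : Cf V Q1 K F R r s := ⟨aV, aQ.sub q4 q2 q3, abV, q4.trans QV, coprime_mono cop q4 le_rfl, q1,
    (k8.trans k1).trans inf_le_right, cent_symm (k8.trans (inf_le_left.trans inf_le_right))⟩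
  have q5 := abelian_of_z2 (pgroup_nil (pgroup_of_le hQ q4)) (min _ (h.z2 (eq_bot_mono faith (inf_le_inf_right _ q4))
    ((inf_le_inf_right _ q4).trans (cent_symm (k8.trans inf_le_right))))
    (norm_cent (norm_inf q2 (norm_cq q2 (norm_center q2)))) (norm_cent (norm_inf q3 (norm_cq q3 (norm_center q3)))))
  have q6 : IsElementaryAbelian p Q1 :=
    ⟨q5, fun a ha => (elab_Ohm1 q5).2 a (min _ (elab_le_Ohm1 kE q1) (norm_Ohm1 q2 p) (norm_Ohm1 q3 p) ha)⟩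
  refine k6 (eq_bot_mono faith (le_inf (q1.trans q4) (cent_symm (h.ab q6 (k7.imp (fun c => ?_) fun c => ?_)))))
  · exact cent_symm (min _ c (norm_cent aQ.nZ) (norm_cent aQ.nZ'))
  · refine eq_bot_mono (comm_inf_cent (inf_le_left.trans q2) (coprime_mono h.aQ.cFX inf_le_left le_rfl) q5)
      (inf_le_inf_right _ (min _ (c.trans (commutator_mono q1 le_rfl)) (norm_comm q2 aQ.nZ) (norm_comm q3 aQ.nZ')))

end Cfsg.Lib.XF
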